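import Groth.Agent.Lib.ZarCoh.Compare
import Mathlib.Topology.Spectral.Prespectral
import Mathlib.Topology.Sheaves.SheafCondition.UniqueGluing
import Mathlib.Topology.QuasiSeparated

/-!
# Sheaves with surjective restrictions between quasi-compact opens are acyclic on them
-/

set_option linter.style.haveILetI false
set_option autoImplicit false

universe u

open CategoryTheory CategoryTheory.Limits TopologicalSpace Opposite CategoryTheory.Abelian
open Groth.Agent.Lib.ZarCoh.Basic

namespace Groth.Agent.Lib.SpecCoh.Acyclic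

variable {X : TopCat.{u}}

/-- All restriction maps between quasi-compact opens are surjective. -/
def QCFlasque (F : CohTop.Ab X) : Prop :=
  ∀ (U V : Opens X), IsCompact (U : Set X) → IsCompact (V : Set X) → ∀ h : V ≤ U,
    Function.Surjective (F.obj.map (homOfLE h).op)

lemma qcFlasque_of_flasque (F : CohTop.Ab X) [TopCat.Sheaf.IsFlasque F] : QCFlasque F :=
  fun _ _ _ _ h => flasque_surjective F h

lemma res_res (F : CohTop.Ab X) {U V W : Opens X} (h : V ≤ U) (h' : W ≤ V) (s : F.obj.obj (op U)) :
    F.obj.map (homOfLE h').op (F.obj.map (homOfLE h).op s) =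
      F.obj.map (homOfLE (h'.trans h)).op s :=
  (ConcreteCategory.comp_apply (F.obj.map (homOfLE h).op) (F.obj.map (homOfLE h').op) s).symm.trans
    (congr($(F.obj.map_comp (homOfLE h).op (homOfLE h').op) s)).symm

lemma res_app {F G : CohTop.Ab X} (φ : F ⟶ G) {U V : Opens X} (h : V ≤ U) (s : F.obj.obj (op U)) :
    φ.hom.app (op V) (F.obj.map (homOfLE h).op s) = G.obj.map (homOfLE h).op (φ.hom.app (op U) s) :=
  congr($(φ.hom.naturality (homOfLE h).op) s)

/-- Sections are left exact. -/
lemma exists_preimage {S : ShortComplex (CohTop.Ab X)} (hS : S.ShortExact) {V : Opens X}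
    (d : S.X₂.obj.obj (op V)) (hd : S.g.hom.app (op V) d = 0) :
    ∃ c : S.X₁.obj.obj (op V), S.f.hom.app (op V) c = d := by
  have h0 : (homEquiv V S.X₂).symm d ≫ S.g = 0 := by
    apply (homEquiv V S.X₃).injective
    rw [homEquiv_comp, Equiv.apply_symm_apply, hd, homEquiv_apply]
    rfl
  haveI := hS.mono_f
  refine ⟨homEquiv V _ (hS.exact.lift _ h0), ?_⟩
  rw [← homEquiv_comp, ShortComplex.Exact.lift_f, Equiv.apply_symm_apply]

variable [PrespectralSpace X] [QuasiSeparatedSpace X]

/-- Sections of an extension by a qc-flasque sheaf lift over quasi-compact opens. -/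
theorem surjective_app {S : ShortComplex (CohTop.Ab X)} (hS : S.ShortExact)
    (hF : QCFlasque S.X₁) {U : Opens X} (hU : IsCompact (U : Set X)) :
    Function.Surjective (S.g.hom.app (op U)) := by
  intro q
  have hloc : ∀ x : U, ∃ (V : Opens X) (h : V ≤ U) (i : S.X₂.obj.obj (op V)),
      IsCompact (V : Set X) ∧ x.1 ∈ V ∧ S.g.hom.app (op V) i = S.X₃.obj.map (homOfLE h).op q := by
    intro x
    obtain ⟨V, h, i, hxV, hi⟩ := exists_local_lift hS q x.2
    obtain ⟨W, ⟨hWo, hWc⟩, hxW, hWV⟩ :=
      PrespectralSpace.isTopologicalBasis.exists_subset_of_mem_open hxV V.2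
    refine ⟨⟨W, hWo⟩, fun y hy => h (hWV hy),
      S.X₂.obj.map (homOfLE (show (⟨W, hWo⟩ : Opens X) ≤ V from hWV)).op i, hWc, hxW, ?_⟩
    rw [res_app, hi, res_res]
  choose V hVU iV hVc hxV hiV using hloc
  obtain ⟨t, ht⟩ := hU.elim_finite_subcover (fun x => (V x : Set X)) (fun x => (V x).2)
    fun y hy => Set.mem_iUnion.2 ⟨⟨y, hy⟩, hxV ⟨y, hy⟩⟩
  classical
  have key : ∀ t : Finset U, ∃ (W : Opens X) (h : W ≤ U) (a : S.X₂.obj.obj (op W)),
      IsCompact (W : Set X) ∧ (∀ x ∈ t, V x ≤ W) ∧
        S.g.hom.app (op W) a = S.X₃.obj.map (homOfLE h).op q := by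
    intro t
    induction t using Finset.induction with
    | empty =>
      refine ⟨⊥, bot_le, 0, by simp, by simp, ?_⟩
      exact TopCat.Presheaf.section_ext (C := AddCommGrpCat.{u}) (X := X) S.X₃ ⊥ _ _
        fun z hz => hz.elim
    | insert x t hxt ih =>
      obtain ⟨W, hWU, a, hWc, hWt, ha⟩ := ih
      have hIc : IsCompact ((W ⊓ V x : Opens X) : Set X) :=
        QuasiSeparatedSpace.inter_isCompact _ _ W.2 hWc (V x).2 (hVc x)
      let d := S.X₂.obj.map (homOfLE (inf_le_left : W ⊓ V x ≤ W)).op a -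
        S.X₂.obj.map (homOfLE (inf_le_right : W ⊓ V x ≤ V x)).op (iV x)
      have hd : S.g.hom.app (op (W ⊓ V x)) d = 0 := by
        simp only [d]
        rw [map_sub, res_app, res_app, ha, hiV, res_res, res_res, sub_self]
      obtain ⟨c, hc⟩ := exists_preimage hS d hd
      obtain ⟨c', hc'⟩ := hF (V x) (W ⊓ V x) (hVc x) hIc inf_le_right c
      let b := iV x + S.f.hom.app (op (V x)) c'
      have hb : S.g.hom.app (op (V x)) b = S.X₃.obj.map (homOfLE (hVU x)).op q := by
        simp only [b]
        rw [map_add, hiV]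
        have h0 : S.g.hom.app (op (V x)) (S.f.hom.app (op (V x)) c') = 0 := by
          rw [← ConcreteCategory.comp_apply]
          change (S.f ≫ S.g).hom.app (op (V x)) c' = 0
          rw [S.zero]
          rfl
        rw [h0, add_zero]
      let O : ULift.{u} Bool → Opens X := fun k => cond k.down W (V x)
      let sf : ∀ k, S.X₂.obj.obj (op (O k)) := fun k => match k with
        | ⟨true⟩ => a
        | ⟨false⟩ => b
      have hcb : S.X₂.obj.map (homOfLE (inf_le_left : W ⊓ V x ≤ W)).op a =
          S.X₂.obj.map (homOfLE (inf_le_right : W ⊓ V x ≤ V x)).op b := by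
        simp only [b]
        rw [map_add, ← res_app, hc', hc]
        simp [d]
      have hcompat : TopCat.Presheaf.IsCompatible (X := X) S.X₂.obj O sf := by
        intro k l
        obtain ⟨k | k⟩ := k <;> obtain ⟨l | l⟩ := l
        · rfl
        · have := congrArg (fun z => S.X₂.obj.map (homOfLE (le_inf inf_le_right inf_le_left :
            V x ⊓ W ≤ W ⊓ V x)).op z) hcb
          simp only [res_res] at this
          exact this.symm
        · exact hcb
        · rfl
      obtain ⟨σ, hσ, -⟩ := TopCat.Sheaf.existsUnique_gluing' (C := AddCommGrpCat.{u}) (X := X)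
        S.X₂ O (W ⊔ V x) (fun k => homOfLE (by
          obtain ⟨k | k⟩ := k
          · exact le_sup_right
          · exact le_sup_left)) (by
          refine sup_le (le_iSup_of_le ⟨true⟩ le_rfl) (le_iSup_of_le ⟨false⟩ le_rfl)) sf hcompat
      refine ⟨W ⊔ V x, sup_le hWU (hVU x), σ, ?_, ?_, ?_⟩
      · rw [Opens.coe_sup]; exact hWc.union (hVc x)
      · intro y hy
        rcases Finset.mem_insert.1 hy with rfl | hy
        · exact le_sup_right
        · exact (hWt y hy).trans le_sup_left
      · refine TopCat.Sheaf.eq_of_locally_eq' (C := AddCommGrpCat.{u}) (X := X) S.X₃ O (W ⊔ V x)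
          (fun k => homOfLE (by
            obtain ⟨k | k⟩ := k
            · exact le_sup_right
            · exact le_sup_left)) (by
            refine sup_le (le_iSup_of_le ⟨true⟩ le_rfl) (le_iSup_of_le ⟨false⟩ le_rfl)) _ _ fun k => ?_
        rw [← res_app, res_res]
        refine (congrArg (S.g.hom.app (op (O k))) (hσ k)).trans ?_
        obtain ⟨k | k⟩ := k
        · exact hb
        · exact ha
  obtain ⟨W, hWU, a, -, hWt, ha⟩ := key t
  have e : W = U := le_antisymm hWU fun y hy => by
    obtain ⟨x, hx, hy⟩ := Set.mem_iUnion₂.1 (ht hy)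
    exact hWt x hx hy
  subst e
  exact ⟨a, by simpa using ha⟩

/-- The quotient of qc-flasque sheaves is qc-flasque. -/
theorem qcFlasque_X₃ {S : ShortComplex (CohTop.Ab X)} (hS : S.ShortExact)
    (h₁ : QCFlasque S.X₁) (h₂ : QCFlasque S.X₂) : QCFlasque S.X₃ := by
  intro U V hU hV h q
  obtain ⟨a, ha⟩ := surjective_app hS h₁ hV q
  obtain ⟨b, hb⟩ := h₂ U V hU hV h a
  exact ⟨S.g.hom.app (op U) b, by rw [← res_app, hb, ha]⟩

/-- qc-flasque sheaves have no higher cohomology on quasi-compact opens. -/
theorem ext_subsingleton {U : Opens X} (hU : IsCompact (U : Set X)) (n : ℕ) :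
    ∀ (F : CohTop.Ab X), QCFlasque F → Subsingleton (Ext.{u} (Zs.obj U) F (n + 1)) := by
  induction n with
  | zero =>
    intro F hF
    refine subsingleton_of_forall_eq 0 fun ξ ↦ ?_
    obtain ⟨y, rfl⟩ := Ext.covariant_sequence_exact₁ _ (injSES_shortExact F) ξ
      (Ext.eq_zero_of_injective _) (zero_add 1)
    obtain ⟨y, rfl⟩ := (Ext.mk₀_bijective (Zs.obj U) _).2 y
    obtain ⟨x, hx⟩ := surjective_app (injSES_shortExact F) hF hU (homEquiv U _ y)
    obtain rfl : y = (homEquiv U _).symm x ≫ (injSES F).g := (homEquiv U _).injective (by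
      rw [homEquiv_comp, Equiv.apply_symm_apply, hx])
    exact mk₀_comp_g_comp_extClass (injSES_shortExact F) _
  | succ n ih =>
    intro F hF
    haveI := ih _ (qcFlasque_X₃ (injSES_shortExact F) hF (qcFlasque_of_flasque _))
    refine subsingleton_of_forall_eq 0 fun ξ ↦ ?_
    obtain ⟨y, rfl⟩ := Ext.covariant_sequence_exact₁ _ (injSES_shortExact F) ξ
      (Ext.eq_zero_of_injective _) rfl
    rw [Subsingleton.elim y 0, Ext.zero_comp]

end Groth.Agent.Lib.SpecCoh.Acyclic
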