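import Groth.Agent.Lib.SpecCoh.Acyclic
import Groth.Agent.Lib.Spectral.Basic
import Mathlib.Topology.Sheaves.Stalks
import Mathlib.Algebra.Category.Grp.FilteredColimits

/-!
# The sheaf of families of germs which are constructibly locally germs of sections
-/

set_option linter.style.haveILetI false
set_option autoImplicit false

universe u

open CategoryTheory CategoryTheory.Limits TopologicalSpace Opposite
open Groth.Agent.Lib.ZarCoh.Basic
open scoped Topology

namespace Groth.Agent.Lib.SpecCoh.ConsGerm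

variable {X : TopCat.{u}} (F : CohTop.Ab X)

/-- A family of germs agrees with a section around `y`, constructibly. -/
def LocGerm (U : Opens X) (a : ∀ y : U, (CohTop.stalk F y.1 : Type u)) (y : U) : Prop :=
  ∃ (C : Set X) (V : Opens X) (s : F.obj.obj (op V)) (hV : C ⊆ V),
    IsOpen[constructibleTopology X] C ∧ y.1 ∈ C ∧
      ∀ z : U, (hz : z.1 ∈ C) → a z = TopCat.Presheaf.germ F.obj V z.1 (hV hz) s

/-- Families of germs that are constructibly locally germs of sections. -/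
noncomputable def sec (U : Opens X) : AddSubgroup (∀ y : U, (CohTop.stalk F y.1 : Type u)) where
  carrier := {a | ∀ y, LocGerm F U a y}
  zero_mem' := fun y => ⟨Set.univ, ⊤, 0, fun _ _ => trivial, @isOpen_univ X (constructibleTopology X),
    trivial, fun z hz => ((TopCat.Presheaf.germ F.obj ⊤ z.1 trivial).hom.map_zero).symm⟩
  add_mem' {a b} ha hb := fun y => by
    obtain ⟨C, V, s, hV, hC, hy, hs⟩ := ha y
    obtain ⟨C', V', t, hV', hC', hy', ht⟩ := hb y
    refine ⟨C ∩ C', V ⊓ V', F.obj.map (homOfLE inf_le_left).op s +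
      F.obj.map (homOfLE inf_le_right).op t, fun z hz => ⟨hV hz.1, hV' hz.2⟩,
      @IsOpen.inter X (constructibleTopology X) _ _ hC hC', ⟨hy, hy'⟩, fun z hz => ?_⟩
    refine Eq.trans ?_ (map_add (TopCat.Presheaf.germ F.obj (V ⊓ V') z.1 _).hom _ _).symm
    change a z + b z = _
    rw [hs z hz.1, ht z hz.2]
    congr 1 <;> exact (TopCat.Presheaf.germ_res_apply F.obj _ z.1 _ _).symm
  neg_mem' {a} ha := fun y => by
    obtain ⟨C, V, s, hV, hC, hy, hs⟩ := ha y
    refine ⟨C, V, -s, hV, hC, hy, fun z hz => ?_⟩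
    change -a z = _
    rw [hs z hz]
    exact (map_neg (TopCat.Presheaf.germ F.obj V z.1 _).hom s).symm

variable [PrespectralSpace X]

lemma isOpen_cons_opens (V : Opens X) : IsOpen[constructibleTopology X] (V : Set X) :=
  Spectral.Basic.isOpen_cons_of_isOpen V.2

/-- Restriction of families. -/
noncomputable def resF {U V : Opens X} (h : V ≤ U) : sec F U →+ sec F V where
  toFun a := ⟨fun y => a.1 ⟨y.1, h y.2⟩, fun y => by
    obtain ⟨C, W, s, hW, hC, hy, hs⟩ := a.2 ⟨y.1, h y.2⟩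
    exact ⟨C, W, s, hW, hC, hy, fun z hz => hs ⟨z.1, h z.2⟩ hz⟩⟩
  map_zero' := rfl
  map_add' _ _ := rfl

/-- The presheaf of families. -/
noncomputable def pre : TopCat.Presheaf AddCommGrpCat.{u} X where
  obj U := AddCommGrpCat.of (sec F U.unop)
  map {U V} i := AddCommGrpCat.ofHom (resF F i.unop.le)
  map_id _ := rfl
  map_comp _ _ := rfl

lemma pre_isSheaf : TopCat.Presheaf.IsSheaf (pre F) := by
  classical
  rw [TopCat.Presheaf.isSheaf_iff_isSheafUniqueGluing]
  intro ι U sf hsf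
  have hag : ∀ i j (z : X) (hi : z ∈ U i) (hj : z ∈ U j), (sf i).1 ⟨z, hi⟩ = (sf j).1 ⟨z, hj⟩ :=
    fun i j z hi hj => congrArg (fun a : sec F (U i ⊓ U j) => a.1 ⟨z, hi, hj⟩) (hsf i j)
  let a : ∀ z : (iSup U : Opens X), (CohTop.stalk F z.1 : Type u) := fun z =>
    (sf (Opens.mem_iSup.1 z.2).choose).1 ⟨z.1, (Opens.mem_iSup.1 z.2).choose_spec⟩
  have ha : ∀ i (z : X) (hz : z ∈ U i), a ⟨z, Opens.mem_iSup.2 ⟨i, hz⟩⟩ = (sf i).1 ⟨z, hz⟩ :=
    fun i z hz => hag _ i z _ hz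
  refine ⟨⟨a, fun y => ?_⟩, fun i => Subtype.ext (funext fun z => ha i z.1 z.2),
    fun b hb => Subtype.ext (funext fun z => ?_)⟩
  · obtain ⟨i, hi⟩ := Opens.mem_iSup.1 y.2
    obtain ⟨C, V, s, hV, hC, hy, hs⟩ := (sf i).2 ⟨y.1, hi⟩
    refine ⟨C ∩ U i, V, s, fun z hz => hV hz.1,
      @IsOpen.inter X (constructibleTopology X) _ _ hC (isOpen_cons_opens (X := X) _), ⟨hy, hi⟩, fun z hz => ?_⟩
    exact (ha i z.1 hz.2).trans (hs ⟨z.1, hz.2⟩ hz.1)
  · obtain ⟨i, hi⟩ := Opens.mem_iSup.1 z.2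
    exact (congrArg (fun c : sec F (U i) => c.1 ⟨z.1, hi⟩) (hb i)).trans (ha i z.1 hi).symm

/-- The sheaf of families. -/
noncomputable def sheaf : CohTop.Ab X := ⟨pre F, pre_isSheaf F⟩

lemma qcFlasque : Acyclic.QCFlasque (sheaf F) := by
  classical
  intro U V _ hV h a
  refine ⟨⟨fun y => if hy : y.1 ∈ V then a.1 ⟨y.1, hy⟩ else 0, fun y => ?_⟩,
    Subtype.ext (funext fun z => dif_pos z.2)⟩
  by_cases hy : y.1 ∈ V
  · obtain ⟨C, W, s, hW, hC, hyC, hs⟩ := a.2 ⟨y.1, hy⟩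
    refine ⟨C ∩ V, W, s, fun z hz => hW hz.1,
      @IsOpen.inter X (constructibleTopology X) _ _ hC (isOpen_cons_opens (X := X) _), ⟨hyC, hy⟩, fun z hz => ?_⟩
    change dite _ _ _ = _
    rw [dif_pos (show z.1 ∈ V from hz.2)]
    exact hs ⟨z.1, hz.2⟩ hz.1
  · refine ⟨(V : Set X)ᶜ, ⊤, 0, fun _ _ => trivial,
      (@isOpen_compl_iff X _ (constructibleTopology X)).2 (Spectral.Basic.isClosed_cons V.2 hV),
      hy, fun z hz => ?_⟩
    change dite _ _ _ = _
    rw [dif_neg (show ¬ z.1 ∈ V from hz)]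
    exact ((TopCat.Presheaf.germ F.obj ⊤ z.1 trivial).hom.map_zero).symm

/-- The family of germs of a section. -/
noncomputable def germs : F ⟶ sheaf F := ⟨
  { app := fun U => AddCommGrpCat.ofHom
      { toFun := fun s => ⟨fun z => TopCat.Presheaf.germ F.obj U.unop z.1 z.2 s,
          fun y => ⟨(U.unop : Set X), U.unop, s, subset_rfl, isOpen_cons_opens (X := X) _, y.2, fun _ _ => rfl⟩⟩
        map_zero' := Subtype.ext (funext fun z => map_zero (TopCat.Presheaf.germ F.obj U.unop z.1 z.2).hom)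
        map_add' := fun s t => Subtype.ext (funext fun z =>
          map_add (TopCat.Presheaf.germ F.obj U.unop z.1 z.2).hom s t) }
    naturality := fun U V i => AddCommGrpCat.hom_ext (AddMonoidHom.ext fun s =>
      Subtype.ext (funext fun z => TopCat.Presheaf.germ_res_apply F.obj i.unop z.1 z.2 s)) }⟩

lemma germs_app_injective (U : Opens X) : Function.Injective ((germs F).hom.app (op U)) := by
  intro s t hst
  refine TopCat.Presheaf.section_ext (C := AddCommGrpCat.{u}) (X := X) F U _ _ fun z hz => ?_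
  exact congrArg (fun a : sec F U => a.1 ⟨z, hz⟩) hst

instance : Mono (germs F) := by
  haveI : ∀ U, Mono ((germs F).hom.app U) := fun U =>
    (AddCommGrpCat.mono_iff_injective _).2 (germs_app_injective F U.unop)
  exact (sheafToPresheaf _ AddCommGrpCat.{u}).mono_of_mono_map (show Mono (germs F).hom from NatTrans.mono_of_mono_app _)

variable [CompactSpace X] [QuasiSeparatedSpace X] [QuasiSober X]

/-- `germs` is onto on the stalk at a point all whose proper generizations have zero stalk. -/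
theorem stalk_surjective (x : X)
    (h : ∀ z : X, z ⤳ x → z ≠ x → Subsingleton (CohTop.stalk F z : Type u)) :
    Function.Surjective ((TopCat.Presheaf.stalkFunctor AddCommGrpCat.{u} x).map (germs F).hom) := by
  intro c
  obtain ⟨U, hxU, a, rfl⟩ := TopCat.Presheaf.exists_germ_eq (sheaf F).obj c
  obtain ⟨C, V, s, hV, hC, hxC, hs⟩ := a.2 ⟨x, hxU⟩
  obtain ⟨W₀, ⟨hW₀o, hW₀c⟩, hxW₀, hW₀⟩ := PrespectralSpace.isTopologicalBasis.exists_subset_of_mem_open
    (show x ∈ (U ⊓ V : Opens X) from ⟨hxU, hV hxC⟩) (U ⊓ V).2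
  let B : Set X := {z | ∃ hz : z ∈ W₀,
    a.1 ⟨z, (hW₀ hz).1⟩ ≠ TopCat.Presheaf.germ F.obj V z (hW₀ hz).2 s}
  have hB : IsClosed[constructibleTopology X] B := by
    refine (@isOpen_compl_iff X _ (constructibleTopology X)).1
      ((@isOpen_iff_forall_mem_open X (constructibleTopology X) _).2 fun z hzB => ?_)
    by_cases hz : z ∈ W₀
    · obtain ⟨C', V', s', hV', hC', hzC', hs'⟩ := a.2 ⟨z, (hW₀ hz).1⟩
      have he : TopCat.Presheaf.germ F.obj V' z (hV' hzC') s' =
          TopCat.Presheaf.germ F.obj V z (hW₀ hz).2 s := by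
        rw [← hs' ⟨z, (hW₀ hz).1⟩ hzC']
        by_contra hne
        exact hzB ⟨hz, hne⟩
      obtain ⟨O, hzO, i₁, i₂, hO⟩ := TopCat.Presheaf.germ_eq F.obj z _ _ _ _ he
      refine ⟨C' ∩ O ∩ W₀, ?_, @IsOpen.inter X (constructibleTopology X) _ _
        (@IsOpen.inter X (constructibleTopology X) _ _ hC' (isOpen_cons_opens O))
        (Spectral.Basic.isOpen_cons_of_isOpen hW₀o), ⟨⟨hzC', hzO⟩, hz⟩⟩
      rintro w ⟨⟨hwC, hwO⟩, hwW⟩ ⟨hw, hne⟩
      apply hne
      rw [hs' ⟨w, (hW₀ hw).1⟩ hwC, ← TopCat.Presheaf.germ_res_apply F.obj i₁ w hwO s', hO,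
        TopCat.Presheaf.germ_res_apply]
    · exact ⟨W₀ᶜ, fun w hw hw1 => hw hw1.choose,
        (@isOpen_compl_iff X _ (constructibleTopology X)).2 (Spectral.Basic.isClosed_cons hW₀o hW₀c), hz⟩
  obtain ⟨O, hxO, hOB⟩ : ∃ O : Opens X, x ∈ O ∧ Disjoint (O : Set X) B := by
    by_contra hc
    push Not at hc
    let ι := {W : Set X // IsOpen W ∧ IsCompact W ∧ x ∈ W}
    have h0 : (⋂ W : ι, B ∩ W.1).Nonempty := by
      refine Spectral.Basic.nonempty_iInter_of_isClosed_cons (fun W : ι => B ∩ W.1)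
        (fun W => @IsClosed.inter X _ _ (constructibleTopology X) hB
          (Spectral.Basic.isClosed_cons W.2.1 W.2.2.1)) fun t => ?_
      obtain ⟨y, hyO, hyB⟩ := Set.not_disjoint_iff.1 (hc
        ⟨⋂ W ∈ t, W.1, t.finite_toSet.isOpen_biInter fun W _ => W.2.1⟩
        (Set.mem_iInter₂.2 fun W _ => W.2.2.2))
      exact ⟨y, Set.mem_iInter₂.2 fun W hW => ⟨hyB, Set.mem_iInter₂.1 hyO W hW⟩⟩
    obtain ⟨z, hz⟩ := h0
    rw [Set.mem_iInter] at hz
    obtain ⟨hzW₀, hne⟩ := (hz ⟨W₀, hW₀o, hW₀c, hxW₀⟩).1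
    have hzx : z ⤳ x := by
      refine specializes_iff_forall_open.2 fun O hO hxO => ?_
      obtain ⟨W, ⟨hWo, hWc⟩, hxW, hWO⟩ :=
        PrespectralSpace.isTopologicalBasis.exists_subset_of_mem_open hxO hO
      exact hWO (hz ⟨W, hWo, hWc, hxW⟩).2
    by_cases hzx' : z = x
    · subst hzx'
      exact hne (hs ⟨z, (hW₀ hzW₀).1⟩ hxC)
    · exact hne (@Subsingleton.elim _ (h z hzx hzx') _ _)
  refine ⟨TopCat.Presheaf.germ F.obj V x (hV hxC) s, ?_⟩
  refine (TopCat.Presheaf.stalkFunctor_map_germ_apply V x (hV hxC) (germs F).hom s).trans ?_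
  let W : Opens X := O ⊓ ⟨W₀, hW₀o⟩
  refine TopCat.Presheaf.germ_ext (F := (sheaf F).obj) W ⟨hxO, hxW₀⟩
    (homOfLE fun y hy => (hW₀ hy.2).2) (homOfLE fun y hy => (hW₀ hy.2).1) ?_
  refine Subtype.ext (funext fun z => ?_)
  change TopCat.Presheaf.germ F.obj V z.1 _ s = a.1 ⟨z.1, _⟩
  by_contra hne
  exact Set.disjoint_left.1 hOB z.2.1 ⟨z.2.2, fun e => hne e.symm⟩

end Groth.Agent.Lib.SpecCoh.ConsGerm
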