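import Groth.Agent.Lib.SpecCoh.SubPre
import Groth.Agent.H30.ColimCoh.Main
import Mathlib.Topology.Sheaves.LocallySurjective
import Mathlib.Data.Int.GCD
import Mathlib.GroupTheory.Archimedean

/-!
# Vanishing of cohomology is detected on free sheaves of quasi-compact opens
-/

set_option linter.style.haveILetI false
set_option autoImplicit false

universe u

open CategoryTheory CategoryTheory.Limits TopologicalSpace Opposite CategoryTheory.Abelian
open Groth.Agent.Lib.ZarCoh.Basic

namespace Groth.Agent.Lib.SpecCoh.FreeVanish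

open SubPre

variable {X : TopCat.{u}}

/-- Sheafification. -/
noncomputable abbrev aS : ((Opens X)ᵒᵖ ⥤ AddCommGrpCat.{u}) ⥤ CohTop.Ab X :=
  presheafToSheaf (Opens.grothendieckTopology X) AddCommGrpCat.{u}

/-- Maps out of a sheafification. -/
noncomputable abbrev adj : aS (X := X) ⊣ sheafToPresheaf _ _ :=
  sheafificationAdjunction (Opens.grothendieckTopology X) AddCommGrpCat.{u}

/-- No cohomology above `d`. -/
def Good (d : ℕ) (F : CohTop.Ab X) : Prop :=
  ∀ p : ℕ, d < p → Subsingleton (Ext.{u} (Zs.obj (⊤ : Opens X)) F p)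

variable {d : ℕ}

lemma Good.of_iso {F F' : CohTop.Ab X} (e : F ≅ F') (h : Good d F) : Good d F' := fun p hp =>
  subsingleton_of_forall_eq 0 fun ξ => by
    have h1 : (ξ.comp (Ext.mk₀ e.inv) (add_zero p)).comp (Ext.mk₀ e.hom) (add_zero p) = ξ := by
      simp
    rw [← h1, (h p hp).elim (ξ.comp (Ext.mk₀ e.inv) (add_zero p)) 0, Ext.zero_comp]

lemma good_of_isZero {F : CohTop.Ab X} (h : IsZero F) : Good d F := fun p _ =>
  subsingleton_of_forall_eq 0 fun ξ => by
    have h1 := ξ.comp_mk₀_id
    rw [h.eq_of_src (𝟙 F) 0] at h1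
    simpa using h1.symm

lemma Good.X₂ {S : ShortComplex (CohTop.Ab X)} (hS : S.ShortExact) (h₁ : Good d S.X₁)
    (h₃ : Good d S.X₃) : Good d S.X₂ := fun p hp =>
  subsingleton_of_forall_eq 0 fun ξ => by
    obtain ⟨y, rfl⟩ := Ext.covariant_sequence_exact₂ _ hS ξ ((h₃ p hp).elim _ _)
    rw [(h₁ p hp).elim y 0, Ext.zero_comp]

lemma Good.X₃ {S : ShortComplex (CohTop.Ab X)} (hS : S.ShortExact) (h₁ : Good d S.X₁)
    (h₂ : Good d S.X₂) : Good d S.X₃ := fun p hp =>
  subsingleton_of_forall_eq 0 fun ξ => by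
    obtain ⟨y, rfl⟩ := Ext.covariant_sequence_exact₃ _ hS ξ (rfl : p + 1 = p + 1)
      ((h₁ (p + 1) (by omega)).elim _ _)
    rw [(h₂ p hp).elim y 0, Ext.zero_comp]

variable [CompactSpace X] [PrespectralSpace X] [QuasiSeparatedSpace X]

lemma good_of_colimit {ι : Type u} [Preorder ι] [IsDirected ι (· ≤ ·)] [Nonempty ι]
    {D : ι ⥤ CohTop.Ab X} {c : Cocone D} (hc : IsColimit c) (h : ∀ i, Good d (D.obj i)) :
    Good d c.pt := by
  intro p hp
  haveI := H30.ColimCoh.Main.preservesColimitsOfShape (J := ι) (X := X) (U := ⊤)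
    (by simpa using isCompact_univ) p
  have hc' := isColimitOfPreserves ((Sheaf.cohomologyPresheafFunctor
    (Opens.grothendieckTopology X) p).flip.obj (op ⊤)) hc
  have h0 : IsZero (((Sheaf.cohomologyPresheafFunctor
      (Opens.grothendieckTopology X) p).flip.obj (op ⊤)).obj c.pt) := by
    rw [IsZero.iff_id_eq_zero]
    refine hc'.hom_ext fun i => ?_
    haveI : Subsingleton (((Sheaf.cohomologyPresheafFunctor (Opens.grothendieckTopology X) p).flip.obj
      (op ⊤)).obj (D.obj i) : AddCommGrpCat.{u}) := h i p hp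
    exact (AddCommGrpCat.isZero_of_subsingleton (((Sheaf.cohomologyPresheafFunctor
      (Opens.grothendieckTopology X) p).flip.obj (op ⊤)).obj (D.obj i))).eq_of_src _ _
  exact AddCommGrpCat.subsingleton_of_isZero h0

variable {G : (Opens X)ᵒᵖ ⥤ AddCommGrpCat.{u}}

/-- A family is good if the finite subfamilies are. -/
lemma good_gen (S : Set (Gen G)) (h : ∀ t : Fin' S, Good d (aS.obj (pre (genFin S t)))) :
    Good d (aS.obj (pre (gen S))) := by
  classical
  exact good_of_colimit (isColimitOfPreserves aS (SubPre.isColimit S)) h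

/-- Maps out of generated families are determined on generators. -/
lemma hom_ext_gen {S : Set (Gen G)} {H : (Opens X)ᵒᵖ ⥤ AddCommGrpCat.{u}} {φ ψ : pre (gen S) ⟶ H}
    (h : ∀ s (hs : s ∈ S), φ.app (op s.1) ⟨s.2, gen_mem hs⟩ = ψ.app (op s.1) ⟨s.2, gen_mem hs⟩) :
    φ = ψ := by
  ext V ⟨x, hx⟩
  induction hx using AddSubgroup.closure_induction with
  | mem x hx =>
    obtain ⟨s, hs, hV, rfl⟩ := hx
    exact ((congr($(φ.naturality (homOfLE hV).op) ⟨s.2, gen_mem hs⟩)).trans
      (congrArg (H.map (homOfLE hV).op) (h s hs))).trans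
      (congr($(ψ.naturality (homOfLE hV).op) ⟨s.2, gen_mem hs⟩)).symm
  | zero => exact (φ.app V).hom.map_zero.trans (ψ.app V).hom.map_zero.symm
  | add x y hx hy hφ hψ =>
    exact ((φ.app V).hom.map_add ⟨x, hx⟩ ⟨y, hy⟩).trans
      ((congrArg₂ (· + ·) hφ hψ).trans ((ψ.app V).hom.map_add ⟨x, hx⟩ ⟨y, hy⟩).symm)
  | neg x hx hφ =>
    exact ((φ.app V).hom.map_neg ⟨x, hx⟩).trans
      ((congrArg (- ·) hφ).trans ((ψ.app V).hom.map_neg ⟨x, hx⟩).symm)

section Step

variable {A B T : Sub G} (hA : A ≤ T) (hB : B ≤ T)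

/-- The sequence `A → T → T / A`. -/
noncomputable abbrev quotSES : ShortComplex ((Opens X)ᵒᵖ ⥤ AddCommGrpCat.{u}) :=
  ShortComplex.mk (incl hA) (cokernel.π (incl hA)) (cokernel.condition _)

lemma quotSES_shortExact : (quotSES hA).ShortExact :=
  { exact := ShortComplex.exact_cokernel _
    mono_f := inferInstanceAs (Mono (incl hA))
    epi_g := inferInstanceAs (Epi (cokernel.π (incl hA))) }

lemma quot_surjective (V : (Opens X)ᵒᵖ) : Function.Surjective ((cokernel.π (incl hA)).app V) :=
  (AddCommGrpCat.epi_iff_surjective _).1 inferInstance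

lemma exists_of_quot_eq_zero {V : (Opens X)ᵒᵖ} {z : T.1 V}
    (hz : (cokernel.π (incl hA)).app V z = 0) : z.1 ∈ A.1 V := by
  obtain ⟨a, ha⟩ := (ShortComplex.ab_exact_iff _).1
    ((quotSES_shortExact hA).exact.map ((evaluation _ _).obj V)) z hz
  exact (congrArg Subtype.val ha) ▸ (a : A.1 V).2

lemma good_of_quot (h₁ : Good d (aS.obj (pre A))) (h₃ : Good d (aS.obj (cokernel (incl hA)))) :
    Good d (aS.obj (pre T)) :=
  Good.X₂ ((quotSES_shortExact hA).map_of_exact aS) h₁ h₃

include hA hB in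
/-- Mayer-Vietoris step. -/
lemma good_join (hT : ∀ V, T.1 V ≤ A.1 V ⊔ B.1 V) (h₁ : Good d (aS.obj (pre A)))
    (h₂ : Good d (aS.obj (pre B))) (h₀ : Good d (aS.obj (pre (inter A B)))) :
    Good d (aS.obj (pre T)) := by
  refine good_of_quot hA h₁ ?_
  let β := incl hB ≫ cokernel.π (incl hA)
  let S : ShortComplex ((Opens X)ᵒᵖ ⥤ AddCommGrpCat.{u}) :=
    ShortComplex.mk (incl (show inter A B ≤ B from fun V => inf_le_right)) β (by
      have h : incl (show inter A B ≤ B from fun V => inf_le_right) ≫ incl hB =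
          incl (show inter A B ≤ A from fun V => inf_le_left) ≫ incl hA := rfl
      simp only [β]
      rw [← Category.assoc, h, Category.assoc, cokernel.condition, comp_zero])
  have hS : S.ShortExact :=
    { exact := by
        refine (ShortComplex.exact_iff_isZero_homology _).2 (Functor.isZero _ fun V => ?_)
        refine (((ShortComplex.exact_iff_isZero_homology _).1 ?_)).of_iso
          (S.mapHomologyIso ((evaluation _ _).obj V)).symm
        rw [ShortComplex.ab_exact_iff]
        intro b hb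
        exact ⟨⟨(b : B.1 V).1, exists_of_quot_eq_zero hA hb, (b : B.1 V).2⟩, rfl⟩
      mono_f := inferInstanceAs (Mono (incl _))
      epi_g := by
        haveI : ∀ V, Epi (β.app V) := fun V => by
          refine (AddCommGrpCat.epi_iff_surjective _).2 fun c => ?_
          obtain ⟨z, rfl⟩ := quot_surjective hA V c
          obtain ⟨a, ha, b, hb, hab⟩ := AddSubgroup.mem_sup.1 (hT V (z : T.1 V).2)
          refine ⟨⟨b, hb⟩, ?_⟩
          have hz : (z : T.1 V) = ((incl hA).app V ⟨a, ha⟩ : T.1 V) + (incl hB).app V ⟨b, hb⟩ :=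
            Subtype.ext hab.symm
          refine Eq.trans ?_ (congrArg ((cokernel.π (incl hA)).app V) hz).symm
          have h0 : (cokernel.π (incl hA)).app V ((incl hA).app V ⟨a, ha⟩) = 0 :=
            congr(($(cokernel.condition (incl hA))).app V ⟨a, ha⟩)
          refine Eq.trans ?_ (((cokernel.π (incl hA)).app V).hom.map_add _ _).symm
          refine Eq.trans ?_ (congrArg (· + _) h0).symm
          exact (zero_add _).symm
        exact NatTrans.epi_of_epi_app _ }
  exact Good.X₃ (hS.map_of_exact aS) h₀ h₂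

end Step

/-- The constant presheaf. -/
noncomputable abbrev Z0 : (Opens X)ᵒᵖ ⥤ AddCommGrpCat.{u} :=
  (Functor.const _).obj (AddCommGrpCat.of (ULift.{u} ℤ))

/-- A generator of the constant presheaf. -/
abbrev g0 (W : Opens X) (n : ℤ) : Gen (Z0 (X := X)) := ⟨W, ULift.up n⟩

lemma genSet_single (W : Opens X) (n : ℤ) (V : (Opens X)ᵒᵖ) :
    genSet {g0 W n} V = {x : ULift.{u} ℤ | V.unop ≤ W ∧ x = ULift.up n} := by
  ext x
  exact ⟨fun ⟨s, hs, h, e⟩ => by obtain rfl := hs; exact ⟨h, e⟩, fun ⟨h, e⟩ => ⟨_, rfl, h, e⟩⟩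

lemma single_dvd {W : Opens X} {n : ℤ} {V : (Opens X)ᵒᵖ} {x : ULift.{u} ℤ}
    (hx : x ∈ (gen {g0 W n}).1 V) : n ∣ x.down := by
  induction hx using AddSubgroup.closure_induction with
  | mem x hx => obtain ⟨_, rfl⟩ := (genSet_single W n V).subset hx; exact dvd_rfl
  | zero => exact dvd_zero _
  | add _ _ _ _ h h' => exact dvd_add h h'
  | neg _ _ h => exact dvd_neg.2 h

lemma single_eq_zero {W : Opens X} {n : ℤ} {V : (Opens X)ᵒᵖ} (hV : ¬ V.unop ≤ W) {x : ULift.{u} ℤ}
    (hx : x ∈ (gen {g0 W n}).1 V) : x = 0 := by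
  induction hx using AddSubgroup.closure_induction with
  | mem x hx => exact absurd ((genSet_single W n V).subset hx).1 hV
  | zero => rfl
  | add _ _ _ _ h h' => rw [h, h', add_zero]
  | neg _ _ h => rw [h, neg_zero]

open Classical in
/-- The component of the map to the free sheaf. -/
noncomputable def toFreeFun (W : Opens X) (n : ℤ) (V : (Opens X)ᵒᵖ) (x : ULift.{u} ℤ) :
    (Zs.obj W).obj.obj V :=
  if h : V.unop ≤ W then (x.down / n) • (Zs.obj W).obj.map (homOfLE h).op (ZarCoh.Basic.gen W) else 0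

lemma mem_single (W : Opens X) (n : ℤ) :
    (ULift.up n : ULift.{u} ℤ) ∈ (gen {g0 W n}).1 (op W) :=
  gen_mem (S := ({g0 W n} : Set (Gen (Z0 (X := X))))) (s := g0 W n) rfl

/-- The map to the free sheaf. -/
noncomputable def toFree (W : Opens X) (n : ℤ) : pre (gen {g0 W n}) ⟶ (Zs.obj W).obj where
  app V := AddCommGrpCat.ofHom (AddMonoidHom.mk' (fun x => toFreeFun W n V x.1) fun x y => by
    change toFreeFun W n V (x.1 + y.1) = _
    unfold toFreeFun
    split
    · rw [ULift.add_down, Int.add_ediv_of_dvd_left (single_dvd x.2), add_zsmul]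
    · simp)
  naturality V V' i := by
    refine AddCommGrpCat.hom_ext (AddMonoidHom.ext fun x => ?_)
    change toFreeFun W n V' x.1 = (Zs.obj W).obj.map i (toFreeFun W n V x.1)
    by_cases h : V.unop ≤ W
    · have h' : V'.unop ≤ W := i.unop.le.trans h
      simp only [toFreeFun, dif_pos h, dif_pos h']
      rw [map_zsmul]
      congr 1
      exact (congr($((Zs.obj W).obj.map_comp (homOfLE h).op i) (ZarCoh.Basic.gen W))).trans rfl
    · have h0 := single_eq_zero h x.2
      simp only [toFreeFun, dif_neg h, map_zero]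
      split
      · rw [h0, ULift.zero_down, Int.zero_ediv, zero_zsmul]
      · rfl

lemma toFree_gen (W : Opens X) {n : ℤ} (hn : n ≠ 0) :
    (toFree W n).app (op W) ⟨ULift.up n, mem_single W n⟩ =
      ZarCoh.Basic.gen W := by
  change toFreeFun W n (op W) (ULift.up n) = _
  simp only [toFreeFun, dif_pos le_rfl, Int.ediv_self hn, one_zsmul]
  change (Zs.obj W).obj.map (𝟙 _) _ = _
  rw [CategoryTheory.Functor.map_id]
  rfl

/-- A map out of the free sheaf. -/
noncomputable def ofSec {W : Opens X} {P : (Opens X)ᵒᵖ ⥤ AddCommGrpCat.{u}} (c : P.obj (op W)) :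
    Zs.obj W ⟶ aS.obj P :=
  (homEquiv W _).symm ((toSheafify (Opens.grothendieckTopology X) P).app (op W) c)

lemma homEquiv_ofSec {W : Opens X} {P : (Opens X)ᵒᵖ ⥤ AddCommGrpCat.{u}} (c : P.obj (op W)) :
    homEquiv W _ (ofSec c) = (toSheafify (Opens.grothendieckTopology X) P).app (op W) c :=
  Equiv.apply_symm_apply _ _

lemma homEquiv_ofSec_comp {W : Opens X} {P : (Opens X)ᵒᵖ ⥤ AddCommGrpCat.{u}} (c : P.obj (op W))
    {F : CohTop.Ab X} (g : aS.obj P ⟶ F) :
    homEquiv W _ (ofSec c ≫ g) = (adj.homEquiv P F g).app (op W) c := by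
  rw [homEquiv_comp, homEquiv_ofSec, Adjunction.homEquiv_unit]
  rfl

lemma toFree_comp_ofSec (W : Opens X) {n : ℤ} (hn : n ≠ 0) :
    toFree W n ≫
      (ofSec (P := pre (gen {g0 W n})) (W := W) ⟨ULift.up n, mem_single W n⟩).hom =
      toSheafify (Opens.grothendieckTopology X) (pre (gen {g0 W n})) := by
  refine hom_ext_gen fun s hs => ?_
  obtain rfl := hs
  let c : (pre (gen {g0 W n})).obj (op W) := ⟨ULift.up n, mem_single W n⟩
  have key : (ofSec c).hom.app (op W) (ZarCoh.Basic.gen W) =
      (toSheafify (Opens.grothendieckTopology X) (pre (gen {g0 W n}))).app (op W) c :=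
    (homEquiv_apply (ofSec c)).symm.trans (homEquiv_ofSec c)
  refine Eq.trans ?_ key
  exact congrArg ((ofSec c).hom.app (op W)) (toFree_gen W hn)

/-- The free sheaf as the sheafification of a family of the constant presheaf. -/
noncomputable def freeIso (W : Opens X) {n : ℤ} (hn : n ≠ 0) :
    aS.obj (pre (gen {g0 W n})) ≅ Zs.obj W where
  hom := (adj.homEquiv _ _).symm (toFree W n)
  inv := ofSec (⟨ULift.up n, mem_single W n⟩ :
    (gen {g0 W n}).1 (op W))
  inv_hom_id := (homEquiv W _).injective (by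
    refine (homEquiv_ofSec_comp _ _).trans ?_
    rw [Equiv.apply_symm_apply]
    exact toFree_gen W hn)
  hom_inv_id := (adj.homEquiv (pre (gen {g0 W n})) (aS.obj (pre (gen {g0 W n})))).injective (by
    rw [Adjunction.homEquiv_naturality_right, Equiv.apply_symm_apply, Adjunction.homEquiv_id]
    exact toFree_comp_ofSec W hn)

variable (hfree : ∀ U : Opens X, IsCompact (U : Set X) → Good d (Zs.obj U))
include hfree

lemma good_single {W : Opens X} (hW : IsCompact (W : Set X)) (n : ℤ) :
    Good d (aS.obj (pre (gen {g0 W n}))) := by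
  by_cases hn : n = 0
  · suffices h : IsZero (pre (gen {g0 W n})) from good_of_isZero ((aS (X := X)).map_isZero h)
    refine Functor.isZero _ fun V => ?_
    refine @AddCommGrpCat.isZero_of_subsingleton _ ⟨fun a b => Subtype.ext (ULift.ext _ _ ?_)⟩
    subst hn
    rw [zero_dvd_iff.1 (single_dvd (a : (gen {g0 W 0}).1 V).2),
      zero_dvd_iff.1 (single_dvd (b : (gen {g0 W 0}).1 V).2)]
  · exact Good.of_iso (freeIso W hn).symm (hfree W hW)

open Classical in
/-- Finitely generated families of the constant presheaf. -/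
theorem good_const (r : ℕ) : ∀ t : Finset (Gen (Z0 (X := X))), t.card ≤ r →
    (∀ s ∈ t, IsCompact (s.1 : Set X)) → Good d (aS.obj (pre (gen (↑t : Set (Gen (Z0 (X := X))))))) := by
  have hzero : ∀ t : Finset (Gen (Z0 (X := X))), t = ∅ → Good d (aS.obj (pre (gen (↑t : Set (Gen (Z0 (X := X))))))) := by
    rintro _ rfl
    suffices h : IsZero (pre (gen (↑(∅ : Finset (Gen (Z0 (X := X)))) : Set (Gen (Z0 (X := X)))))) from
      good_of_isZero ((aS (X := X)).map_isZero h)
    refine Functor.isZero _ fun V => ?_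
    refine @AddCommGrpCat.isZero_of_subsingleton _ ⟨fun a b => Subtype.ext ?_⟩
    have := gen_empty (G := Z0 (X := X)) V
    have key : ∀ z : ((gen (↑(∅ : Finset (Gen (Z0 (X := X)))) : Set (Gen (Z0 (X := X))))).1 V), z.1 = 0 := fun z =>
      AddSubgroup.mem_bot.1 (this ▸ (by simpa using z.2))
    exact (key a).trans (key b).symm
  induction r with
  | zero => exact fun t ht _ => hzero t (Finset.card_eq_zero.1 (by omega))
  | succ r ih =>
    intro t ht hq
    by_cases he : t = ∅
    · exact hzero t he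
    obtain ⟨b, hb⟩ := Finset.nonempty_iff_ne_empty.2 he
    obtain ⟨W, ⟨n⟩⟩ := b
    let t₀ := t.erase ⟨W, ⟨n⟩⟩
    have hc : t₀.card ≤ r := by
      have := Finset.card_erase_of_mem hb
      change (t.erase _).card ≤ r
      omega
    let t' : Finset (Gen (Z0 (X := X))) :=
      t₀.image fun s => g0 (s.1 ⊓ W) (Int.lcm (s.2 : ULift.{u} ℤ).down n)
    have hWc : IsCompact (W : Set X) := hq _ hb
    have hq₀ : ∀ s ∈ t₀, IsCompact (s.1 : Set X) := fun s hs => hq s (Finset.mem_of_mem_erase hs)
    have hI : inter (gen (↑t₀ : Set (Gen (Z0 (X := X))))) (gen {g0 W n}) = gen (↑t' : Set (Gen (Z0 (X := X)))) := by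
      refine le_antisymm (fun V x hx => ?_) (gen_le fun s hs => ?_)
      · obtain ⟨hx₁, hx₂⟩ := hx
        by_cases hV : V.unop ≤ W
        · let down : ULift.{u} ℤ →+ ℤ := AddEquiv.ulift.toAddMonoidHom
          let H : AddSubgroup ℤ := ((gen (↑t₀ : Set (Gen (Z0 (X := X))))).1 V).map down
          obtain ⟨a, ha⟩ := Int.subgroup_cyclic H
          have hmem : ∀ y ∈ (gen (↑t₀ : Set (Gen (Z0 (X := X))))).1 V, a ∣ (y : ULift.{u} ℤ).down := fun y hy => by
            have h1 : down y ∈ AddSubgroup.closure {a} := ha ▸ AddSubgroup.mem_map_of_mem _ hy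
            obtain ⟨k, hk⟩ := AddSubgroup.mem_closure_singleton.1 h1
            exact ⟨k, by rw [mul_comm]; exact hk.symm⟩
          obtain ⟨d₀, hd₀, hda⟩ : ∃ d₀ ∈ (gen (↑t₀ : Set (Gen (Z0 (X := X))))).1 V, down d₀ = a :=
            AddSubgroup.mem_map.1 (show a ∈ H from ha ▸ AddSubgroup.subset_closure rfl)
          obtain ⟨c, hc⟩ := Int.dvd_lcm_left a n
          obtain ⟨m, hm⟩ : (Int.lcm a n : ℤ) ∣ (x : ULift.{u} ℤ).down :=
            Int.coe_lcm_dvd (hmem x hx₁) (single_dvd hx₂)
          have key : ∀ y ∈ (gen (↑t₀ : Set (Gen (Z0 (X := X))))).1 V, c • y ∈ (gen (↑t' : Set (Gen (Z0 (X := X))))).1 V := by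
            intro y hy
            induction hy using AddSubgroup.closure_induction with
            | mem y hy =>
              obtain ⟨s, hs, hsV, rfl⟩ := hy
              obtain ⟨e, he⟩ := hmem _ (AddSubgroup.subset_closure ⟨s, hs, hsV, rfl⟩)
              let ls : ℤ := (s.2 : ULift.{u} ℤ).down
              obtain ⟨q, hq⟩ : (Int.lcm ls n : ℤ) ∣ c * ls := by
                refine Int.coe_lcm_dvd (dvd_mul_left _ _) ?_
                have : c * ls = (Int.lcm a n : ℤ) * e := by rw [hc, show ls = a * e from he]; ring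
                exact this ▸ dvd_mul_of_dvd_left (Int.dvd_lcm_right a n) e
              have hg : (ULift.up (Int.lcm ls n : ℤ) : ULift.{u} ℤ) ∈ (gen (↑t' : Set (Gen (Z0 (X := X))))).1 V :=
                AddSubgroup.subset_closure ⟨g0 (s.1 ⊓ W) (Int.lcm ls n),
                  Finset.mem_image.2 ⟨s, hs, rfl⟩, le_inf hsV hV, rfl⟩
              exact (congrArg (· ∈ (gen (↑t' : Set (Gen (Z0 (X := X))))).1 V)
                (ULift.ext _ _ (hq.trans (mul_comm _ _)) :
                  (c • (s.2 : ULift.{u} ℤ)) = q • (ULift.up (Int.lcm ls n : ℤ) : ULift.{u} ℤ))).mpr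
                (zsmul_mem hg q)
            | zero => simp
            | add y z _ _ h h' => rw [zsmul_add]; exact add_mem h h'
            | neg y _ h => rw [zsmul_neg]; exact neg_mem h
          have hxd : (x : ULift.{u} ℤ) = m • c • (d₀ : ULift.{u} ℤ) := by
            refine ULift.ext _ _ ?_
            change _ = m * (c * down d₀)
            rw [hda, hm, hc]
            ring
          exact (congrArg (· ∈ (gen (↑t' : Set (Gen (Z0 (X := X))))).1 V) hxd).mpr
            (zsmul_mem (key d₀ hd₀) m)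
        · rw [single_eq_zero hV hx₂]
          exact zero_mem _
      · obtain ⟨s', hs', rfl⟩ := Finset.mem_image.1 hs
        obtain ⟨q, hq⟩ := Int.dvd_lcm_left (s'.2 : ULift.{u} ℤ).down n
        obtain ⟨q', hq'⟩ := Int.dvd_lcm_right (s'.2 : ULift.{u} ℤ).down n
        constructor
        · have := zsmul_mem (AddSubgroup.subset_closure (k := genSet (↑t₀ : Set (Gen (Z0 (X := X)))) (op (s'.1 ⊓ W)))
            ⟨s', hs', inf_le_left, rfl⟩) q
          refine (congrArg (· ∈ (gen (↑t₀ : Set (Gen (Z0 (X := X))))).1 (op (s'.1 ⊓ W)))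
            (ULift.ext _ _ (hq.trans (mul_comm _ _)) :
              (ULift.up (Int.lcm (s'.2 : ULift.{u} ℤ).down n : ℤ) : ULift.{u} ℤ) =
                q • (s'.2 : ULift.{u} ℤ))).mpr this
        · have := zsmul_mem (AddSubgroup.subset_closure (k := genSet ({g0 W n} : Set (Gen (Z0 (X := X)))) (op (s'.1 ⊓ W)))
            ⟨g0 W n, rfl, inf_le_right, rfl⟩) q'
          refine (congrArg (· ∈ (gen ({g0 W n} : Set (Gen (Z0 (X := X))))).1 (op (s'.1 ⊓ W)))
            (ULift.ext _ _ (hq'.trans (mul_comm _ _)) :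
              (ULift.up (Int.lcm (s'.2 : ULift.{u} ℤ).down n : ℤ) : ULift.{u} ℤ) =
                q' • (ULift.up n : ULift.{u} ℤ))).mpr this
    refine good_join (A := gen (↑t₀ : Set (Gen (Z0 (X := X))))) (B := gen {g0 W n})
      (gen_mono (fun s hs => Finset.mem_of_mem_erase hs)) (gen_mono (by simpa using hb))
      (fun V => ?_) (ih t₀ hc hq₀) (good_single hfree hWc n) ?_
    · refine le_trans (gen_mono ?_ V) (gen_union _ _ V)
      intro s hs
      by_cases h : s = ⟨W, ⟨n⟩⟩
      · exact Or.inr h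
      · exact Or.inl (Finset.mem_erase.2 ⟨h, hs⟩)
    · rw [hI]
      refine ih t' (Finset.card_image_le.trans hc) fun s hs => ?_
      obtain ⟨s', hs', rfl⟩ := Finset.mem_image.1 hs
      exact QuasiSeparatedSpace.inter_isCompact _ _ s'.1.2 (hq₀ s' hs') W.2 hWc

lemma good_gen_const (S : Set (Gen (Z0 (X := X)))) (hS : ∀ s ∈ S, IsCompact (s.1 : Set X)) :
    Good d (aS.obj (pre (gen S))) := by
  classical
  refine good_gen S fun t => ?_
  have e : Subtype.val '' (t : Set S) = ↑(t.map (Function.Embedding.subtype (· ∈ S))) := by simp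
  rw [genFin, e]
  refine good_const hfree _ _ le_rfl fun s hs => ?_
  obtain ⟨s', -, rfl⟩ := Finset.mem_map.1 hs
  exact hS _ s'.2

/-- Subsheaves of free sheaves. -/
theorem good_sub {U : Opens X} (hU : IsCompact (U : Set X)) {K : CohTop.Ab X} (f : K ⟶ Zs.obj U)
    [Mono f] : Good d K := by
  let S : Set (Gen (Z0 (X := X))) := {s | IsCompact (s.1 : Set X) ∧ ∃ h : s.1 ≤ U, ∃ k,
    f.hom.app (op s.1) k =
      (s.2 : ULift.{u} ℤ).down • (Zs.obj U).obj.map (homOfLE h).op (ZarCoh.Basic.gen U)}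
  have hle : gen S ≤ gen {g0 U 1} := gen_le fun s ⟨_, h, _⟩ => by
    have := zsmul_mem (AddSubgroup.subset_closure (k := genSet ({g0 U 1} : Set (Gen (Z0 (X := X)))) (op s.1))
      ⟨g0 U 1, rfl, h, rfl⟩) (s.2 : ULift.{u} ℤ).down
    exact (congrArg (· ∈ (gen ({g0 U 1} : Set (Gen (Z0 (X := X))))).1 (op s.1))
      (ULift.ext _ _ (mul_one (s.2 : ULift.{u} ℤ).down).symm :
        (s.2 : ULift.{u} ℤ) = (s.2 : ULift.{u} ℤ).down • (ULift.up 1 : ULift.{u} ℤ))).mpr this
  let ψ : aS.obj (pre (gen S)) ⟶ Zs.obj U := aS.map (incl hle) ≫ (freeIso U one_ne_zero).hom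
  have hψ : adj.homEquiv _ _ ψ = incl hle ≫ toFree U 1 := by
    rw [Adjunction.homEquiv_naturality_left]
    exact congrArg (incl hle ≫ ·) (Equiv.apply_symm_apply _ _)
  haveI : Mono ψ := mono_comp _ _
  have h0 : ψ ≫ cokernel.π f = 0 := by
    apply (adj.homEquiv _ _).injective
    rw [Adjunction.homEquiv_naturality_right, hψ]
    refine hom_ext_gen fun s hs => ?_
    obtain ⟨-, h, k, hk⟩ := hs
    have e : toFreeFun U 1 (op s.1) s.2 = f.hom.app (op s.1) k := by
      simp only [toFreeFun, dif_pos h, Int.ediv_one]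
      exact hk.symm
    refine (congrArg _ e).trans ?_
    rw [Adjunction.homEquiv_unit, Functor.map_zero, comp_zero]
    exact congr(($(cokernel.condition f)).hom.app (op s.1) k)
  let l : aS.obj (pre (gen S)) ⟶ K := (ShortComplex.exact_cokernel f).lift ψ h0
  have hl : l ≫ f = ψ := (ShortComplex.exact_cokernel f).lift_f ψ h0
  haveI : Mono l := mono_of_mono_fac hl
  haveI : Epi l := by
    refine (TopCat.Sheaf.isLocallySurjective_iff_epi l).1
      ((TopCat.Presheaf.isLocallySurjective_iff l.hom).2 fun V k x hx => ?_)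
    have hq : (adj.homEquiv _ _ (freeIso U one_ne_zero).hom) = toFree U 1 :=
      Equiv.apply_symm_apply _ _
    have hloc : TopCat.Presheaf.IsLocallySurjective (toFree U 1) := by
      rw [← hq, Adjunction.homEquiv_unit]
      haveI : Presheaf.IsLocallySurjective (Opens.grothendieckTopology X)
          ((adj (X := X)).unit.app (pre (gen {g0 U 1}))) :=
        inferInstanceAs (Presheaf.IsLocallySurjective (Opens.grothendieckTopology X)
          (toSheafify (Opens.grothendieckTopology X) (pre (gen {g0 U 1}))))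
      exact Presheaf.isLocallySurjective_comp (J := Opens.grothendieckTopology X)
        ((adj (X := X)).unit.app _) ((sheafToPresheaf _ _).map (freeIso U one_ne_zero).hom)
    obtain ⟨V', hV', ⟨z, hz⟩, hxV'⟩ := (TopCat.Presheaf.isLocallySurjective_iff _).1 hloc V
      (f.hom.app (op V) k) x hx
    obtain ⟨W, ⟨hWo, hWc⟩, hxW, hWV'⟩ :=
      PrespectralSpace.isTopologicalBasis.exists_subset_of_mem_open hxV' V'.2
    let Wo : Opens X := ⟨W, hWo⟩
    have hW1 : Wo ≤ V' := hWV'
    let z' : (gen {g0 U 1}).1 (op Wo) := (pre (gen {g0 U 1})).map (homOfLE hW1).op z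
    have hz' : (toFree U 1).app (op Wo) z' = f.hom.app (op Wo) (K.obj.map (homOfLE (hW1.trans hV')).op k) := by
      refine (congr($((toFree U 1).naturality (homOfLE hW1).op) z)).trans ?_
      refine (congrArg ((Zs.obj U).obj.map (homOfLE hW1).op) hz).trans ?_
      refine Eq.trans ?_ (congr($(f.hom.naturality (homOfLE (hW1.trans hV')).op) k)).symm
      exact (congr($((Zs.obj U).obj.map_comp (homOfLE hV').op (homOfLE hW1).op) (f.hom.app (op V) k))).symm
    refine ⟨Wo, hW1.trans hV', ?_, hxW⟩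
    have hfinj : Function.Injective (f.hom.app (op Wo)) :=
      (AddCommGrpCat.mono_iff_injective _).1 inferInstance
    by_cases hWU : Wo ≤ U
    · have hs : g0 Wo z'.1.down ∈ S := ⟨hWc, hWU, K.obj.map (homOfLE (hW1.trans hV')).op k, by
        rw [← hz']
        change toFreeFun U 1 (op Wo) z'.1 = _
        simp only [toFreeFun, dif_pos hWU, Int.ediv_one]⟩
      refine ⟨(toSheafify (Opens.grothendieckTopology X) (pre (gen S))).app (op Wo) ⟨z'.1, gen_mem hs⟩, ?_⟩
      apply hfinj
      refine Eq.trans ?_ hz'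
      exact congr($(congrArg (adj.homEquiv _ _) hl |>.trans hψ).app (op Wo) ⟨z'.1, gen_mem hs⟩)
    · refine ⟨0, ?_⟩
      apply hfinj
      refine Eq.trans ?_ hz'
      rw [map_zero, map_zero]
      change (0 : (Zs.obj U).obj.obj (op Wo)) = toFreeFun U 1 (op Wo) z'.1
      simp only [toFreeFun, dif_neg hWU]
  haveI : IsIso l := isIso_of_mono_of_epi l
  exact Good.of_iso (asIso l) (good_gen_const hfree S fun s hs => hs.1)

/-- A quotient of a free sheaf. -/
theorem good_quotient {U : Opens X} (hU : IsCompact (U : Set X)) {Q : CohTop.Ab X} (g : Zs.obj U ⟶ Q)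
    [Epi g] : Good d Q :=
  Good.X₃ (S := ShortComplex.mk (kernel.ι g) g (kernel.condition g))
    { exact := ShortComplex.exact_of_f_is_kernel _ (kernelIsKernel g) }
    (good_sub hfree hU (kernel.ι g)) (hfree U hU)

open Classical in
/-- Finitely generated families of any presheaf. -/
theorem good_fin {G : (Opens X)ᵒᵖ ⥤ AddCommGrpCat.{u}} (t : Finset (Gen G))
    (hq : ∀ s ∈ t, IsCompact (s.1 : Set X)) : Good d (aS.obj (pre (gen (↑t : Set (Gen G))))) := by
  induction t using Finset.induction with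
  | empty =>
    suffices h : IsZero (pre (gen (↑(∅ : Finset (Gen G)) : Set (Gen G)))) from
      good_of_isZero ((aS (X := X)).map_isZero h)
    refine Functor.isZero _ fun V => ?_
    refine @AddCommGrpCat.isZero_of_subsingleton _ ⟨fun a b => Subtype.ext ?_⟩
    have key : ∀ z : ((gen (↑(∅ : Finset (Gen G)) : Set (Gen G))).1 V), z.1 = 0 := fun z =>
      AddSubgroup.mem_bot.1 (gen_empty (G := G) V ▸ (by simpa using z.2))
    exact (key a).trans (key b).symm
  | insert b t hb ih =>
    have hA : gen (↑t : Set (Gen G)) ≤ gen (↑(insert b t) : Set (Gen G)) := gen_mono (by simp)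
    refine good_of_quot hA (ih fun s hs => hq s (Finset.mem_insert_of_mem hs)) ?_
    let c := (cokernel.π (incl hA)).app (op b.1)
      ⟨b.2, gen_mem (by simp : b ∈ (↑(insert b t) : Set (Gen G)))⟩
    haveI : Epi (ofSec c) := by
      refine ⟨fun {Z} g g' e => ?_⟩
      apply (adj.homEquiv _ _).injective
      rw [← cancel_epi (cokernel.π (incl hA))]
      refine hom_ext_gen fun s hs => ?_
      rcases Finset.mem_insert.1 hs with rfl | hs'
      · have e' := congrArg (homEquiv s.1 Z) e
        rw [homEquiv_ofSec_comp, homEquiv_ofSec_comp] at e'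
        exact e'
      · have h0 : (cokernel.π (incl hA)).app (op s.1) ⟨s.2, gen_mem hs⟩ = 0 :=
          congr(($(cokernel.condition (incl hA))).app (op s.1) ⟨s.2, gen_mem hs'⟩)
        exact ((congrArg ((adj.homEquiv _ _ g).app (op s.1)) h0).trans
          ((adj.homEquiv _ _ g).app (op s.1)).hom.map_zero).trans
          ((congrArg ((adj.homEquiv _ _ g').app (op s.1)) h0).trans
            ((adj.homEquiv _ _ g').app (op s.1)).hom.map_zero).symm
    exact good_quotient hfree (hq b (Finset.mem_insert_self b t)) (ofSec c)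

/-- All sheaves. -/
theorem good_all (F : CohTop.Ab X) : Good d F := by
  classical
  let S : Set (Gen F.obj) := {s | IsCompact (s.1 : Set X)}
  let l : aS.obj (pre (gen S)) ⟶ F := (adj.homEquiv _ _).symm (ι (gen S))
  haveI : Mono l := by
    haveI : Mono (ι (gen S)) := by
      haveI : ∀ V, Mono ((ι (gen S)).app V) := fun V =>
        (AddCommGrpCat.mono_iff_injective _).2 Subtype.val_injective
      exact NatTrans.mono_of_mono_app _
    simp only [l, Adjunction.homEquiv_counit]
    exact mono_comp _ _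
  haveI : Epi l := by
    refine (TopCat.Sheaf.isLocallySurjective_iff_epi l).1
      ((TopCat.Presheaf.isLocallySurjective_iff l.hom).2 fun V k x hx => ?_)
    obtain ⟨W, ⟨hWo, hWc⟩, hxW, hWV⟩ :=
      PrespectralSpace.isTopologicalBasis.exists_subset_of_mem_open hx V.2
    let s : Gen F.obj := ⟨⟨W, hWo⟩, F.obj.map (homOfLE (show (⟨W, hWo⟩ : Opens X) ≤ V from hWV)).op k⟩
    have hs : s ∈ S := hWc
    refine ⟨⟨W, hWo⟩, hWV, ⟨(toSheafify (Opens.grothendieckTopology X) (pre (gen S))).app _
      ⟨s.2, gen_mem hs⟩, ?_⟩, hxW⟩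
    have e : adj.homEquiv _ _ l = ι (gen S) := Equiv.apply_symm_apply _ _
    rw [Adjunction.homEquiv_unit] at e
    exact congr(($e).app (op s.1) ⟨s.2, gen_mem hs⟩)
  haveI : IsIso l := isIso_of_mono_of_epi l
  refine Good.of_iso (asIso l) (good_gen S fun t => ?_)
  have e : Subtype.val '' (t : Set S) = ↑(t.map (Function.Embedding.subtype (· ∈ S))) := by simp
  rw [genFin, e]
  refine good_fin hfree _ fun s hs => ?_
  obtain ⟨s', -, rfl⟩ := Finset.mem_map.1 hs
  exact s'.2

end Groth.Agent.Lib.SpecCoh.FreeVanish
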