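import Groth.Agent.Lib.ZarCoh.Compare
import Mathlib.Algebra.Category.Grp.FilteredColimits
import Mathlib.CategoryTheory.Limits.Types.Filtered
import Mathlib.Algebra.Category.Grp.Abelian

/-!
# Subpresheaves of abelian presheaves on a space generated by sections
-/

set_option linter.style.haveILetI false
set_option autoImplicit false

universe u

open CategoryTheory CategoryTheory.Limits TopologicalSpace Opposite

namespace Groth.Agent.Lib.SpecCoh.SubPre

variable {X : TopCat.{u}} (G : (Opens X)ᵒᵖ ⥤ AddCommGrpCat.{u})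

/-- Families of subgroups stable under restriction. -/
def Sub : Type u :=
  {f : ∀ V : (Opens X)ᵒᵖ, AddSubgroup (G.obj V) //
    ∀ ⦃V W : (Opens X)ᵒᵖ⦄ (i : V ⟶ W), ∀ x ∈ f V, G.map i x ∈ f W}

variable {G}

instance : PartialOrder (Sub G) := inferInstanceAs (PartialOrder (Subtype _))

/-- The intersection. -/
def inter (A B : Sub G) : Sub G :=
  ⟨fun V => A.1 V ⊓ B.1 V, fun _ _ i x hx => ⟨A.2 i x hx.1, B.2 i x hx.2⟩⟩

/-- The presheaf of a family. -/
noncomputable def pre (A : Sub G) : (Opens X)ᵒᵖ ⥤ AddCommGrpCat.{u} where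
  obj V := AddCommGrpCat.of (A.1 V)
  map i := AddCommGrpCat.ofHom (AddMonoidHom.mk' (fun x => ⟨G.map i x.1, A.2 i x.1 x.2⟩)
    fun x y => Subtype.ext (map_add (G.map i).hom x.1 y.1))
  map_id V := AddCommGrpCat.hom_ext (AddMonoidHom.ext fun x =>
    Subtype.ext (congr($(G.map_id V) x.1)))
  map_comp i j := AddCommGrpCat.hom_ext (AddMonoidHom.ext fun x =>
    Subtype.ext (congr($(G.map_comp i j) x.1)))

/-- The inclusion. -/
noncomputable def ι (A : Sub G) : pre A ⟶ G where
  app V := AddCommGrpCat.ofHom (A.1 V).subtype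
  naturality _ _ _ := rfl

/-- The inclusion of families. -/
noncomputable def incl {A B : Sub G} (h : A ≤ B) : pre A ⟶ pre B where
  app V := AddCommGrpCat.ofHom (AddSubgroup.inclusion (h V))
  naturality _ _ _ := rfl

lemma incl_app_apply {A B : Sub G} (h : A ≤ B) (V : (Opens X)ᵒᵖ) (x : A.1 V) :
    ((incl h).app V x : B.1 V).1 = x.1 := rfl

lemma incl_app_injective {A B : Sub G} (h : A ≤ B) (V : (Opens X)ᵒᵖ) :
    Function.Injective ((incl h).app V) := fun x y e =>
  Subtype.ext (congrArg (fun z : B.1 V => z.1) e)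

instance {A B : Sub G} (h : A ≤ B) : Mono (incl h) :=
  haveI : ∀ V, Mono ((incl h).app V) := fun V =>
    (AddCommGrpCat.mono_iff_injective _).2 (incl_app_injective h V)
  NatTrans.mono_of_mono_app _

/-- Generating sections. -/
abbrev Gen (G : (Opens X)ᵒᵖ ⥤ AddCommGrpCat.{u}) : Type u :=
  Σ W : Opens X, (G.obj (op W) : Type u)

/-- The restrictions of the generators to `V`. -/
def genSet (S : Set (Gen G)) (V : (Opens X)ᵒᵖ) : Set (G.obj V) :=
  {x | ∃ s ∈ S, ∃ h : V.unop ≤ s.1, x = G.map (homOfLE h).op s.2}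

/-- The family generated by sections. -/
noncomputable def gen (S : Set (Gen G)) : Sub G :=
  ⟨fun V => AddSubgroup.closure (genSet S V), fun V W i x hx => by
    suffices h : AddSubgroup.closure (genSet S V) ≤
        (AddSubgroup.closure (genSet S W)).comap (G.map i).hom from h hx
    rw [AddSubgroup.closure_le]
    rintro _ ⟨s, hs, h, rfl⟩
    refine AddSubgroup.subset_closure ⟨s, hs, i.unop.le.trans h, ?_⟩
    exact (ConcreteCategory.comp_apply _ _ _).symm.trans (congr($(G.map_comp _ i) s.2)).symm⟩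

lemma gen_mono {S T : Set (Gen G)} (h : S ⊆ T) : gen S ≤ gen T := fun V =>
  AddSubgroup.closure_mono fun _ ⟨s, hs, r⟩ => ⟨s, h hs, r⟩

lemma gen_mem {S : Set (Gen G)} {s : Gen G} (hs : s ∈ S) : s.2 ∈ (gen S).1 (op s.1) :=
  AddSubgroup.subset_closure ⟨s, hs, le_rfl, by
    rw [show (homOfLE (le_refl s.1)).op = 𝟙 (op s.1) from rfl, G.map_id]; rfl⟩

lemma gen_le {S : Set (Gen G)} {A : Sub G} (h : ∀ s ∈ S, s.2 ∈ A.1 (op s.1)) : gen S ≤ A :=
  fun V => (AddSubgroup.closure_le _).2 (by
    rintro _ ⟨s, hs, hV, rfl⟩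
    exact A.2 (homOfLE hV).op s.2 (h s hs))

lemma gen_union (S T : Set (Gen G)) (V : (Opens X)ᵒᵖ) :
    (gen (S ∪ T)).1 V ≤ (gen S).1 V ⊔ (gen T).1 V :=
  (AddSubgroup.closure_le _).2 (by
    rintro x ⟨s, hs, r⟩
    rcases hs with hs | hs
    · exact AddSubgroup.mem_sup_left (AddSubgroup.subset_closure ⟨s, hs, r⟩)
    · exact AddSubgroup.mem_sup_right (AddSubgroup.subset_closure ⟨s, hs, r⟩))

lemma gen_empty (V : (Opens X)ᵒᵖ) : (gen (∅ : Set (Gen G))).1 V = ⊥ :=
  le_bot_iff.1 ((AddSubgroup.closure_le _).2 fun x ⟨_, hs, _⟩ => hs.elim)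

section Colimit

variable (S : Set (Gen G))

/-- Finite subfamilies of generators. -/
abbrev Fin' : Type u := Finset S

/-- The family of a finite subfamily. -/
noncomputable abbrev genFin (t : Fin' S) : Sub G := gen (Subtype.val '' (t : Set S))

lemma genFin_mono {t t' : Fin' S} (h : t ≤ t') : genFin S t ≤ genFin S t' :=
  gen_mono (Set.image_mono (by exact_mod_cast h))

lemma genFin_le (t : Fin' S) : genFin S t ≤ gen S :=
  gen_mono (fun _ ⟨s, _, e⟩ => e ▸ s.2)

/-- The diagram of the finite subfamilies. -/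
noncomputable def diagram : Fin' S ⥤ ((Opens X)ᵒᵖ ⥤ AddCommGrpCat.{u}) where
  obj t := pre (genFin S t)
  map h := incl (genFin_mono S h.le)
  map_id _ := rfl
  map_comp _ _ := rfl

/-- The cocone to the family of all generators. -/
noncomputable def cocone : Cocone (diagram S) where
  pt := pre (gen S)
  ι := { app := fun t => incl (genFin_le S t), naturality := fun _ _ _ => rfl }

lemma exists_mem_genFin {V : (Opens X)ᵒᵖ} {x : G.obj V} (hx : x ∈ (gen S).1 V) :
    ∃ t : Fin' S, x ∈ (genFin S t).1 V := by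
  classical
  induction hx using AddSubgroup.closure_induction with
  | mem x hx =>
    obtain ⟨s, hs, h, rfl⟩ := hx
    exact ⟨{⟨s, hs⟩}, AddSubgroup.subset_closure ⟨s, ⟨⟨s, hs⟩, by simp, rfl⟩, h, rfl⟩⟩
  | zero => exact ⟨∅, zero_mem _⟩
  | add x y _ _ hx hy =>
    obtain ⟨t, ht⟩ := hx
    obtain ⟨t', ht'⟩ := hy
    exact ⟨t ∪ t', add_mem (genFin_mono S Finset.subset_union_left V ht)
      (genFin_mono S Finset.subset_union_right V ht')⟩
  | neg x _ hx =>
    obtain ⟨t, ht⟩ := hx
    exact ⟨t, neg_mem ht⟩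

/-- The family of all generators is the colimit of the finite subfamilies. -/
noncomputable def isColimit : IsColimit (cocone S) := by
  classical
  refine evaluationJointlyReflectsColimits _ fun V => ?_
  haveI : ReflectsColimitsOfShape (Fin' S) (forget AddCommGrpCat.{u}) :=
    reflectsColimitsOfShape_of_reflectsIsomorphisms
  refine isColimitOfReflects (forget AddCommGrpCat.{u}) ?_
  refine Types.FilteredColimit.isColimitOf' _ _ (fun x => ?_) fun t x y hxy => ⟨t, 𝟙 t, ?_⟩
  · obtain ⟨t, ht⟩ := exists_mem_genFin S (show (x : (gen S).1 V).1 ∈ (gen S).1 V from x.2)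
    exact ⟨t, ⟨_, ht⟩, rfl⟩
  · exact congrArg _ (incl_app_injective (genFin_le S t) V hxy)

end Colimit

end Groth.Agent.Lib.SpecCoh.SubPre
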