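import Groth.Agent.Lib.SpecCoh.ConsGerm
import Mathlib.Topology.KrullDimension

/-!
# Cohomology of spectral spaces vanishes above the dimension
-/

set_option linter.style.haveILetI false
set_option autoImplicit false

universe u

open CategoryTheory CategoryTheory.Limits TopologicalSpace Opposite CategoryTheory.Abelian
open Groth.Agent.Lib.ZarCoh.Basic

namespace Groth.Agent.Lib.SpecCoh.Vanishing

variable {X : TopCat.{u}}

/-- The closure of a point. -/
def cl (x : X) : IrreducibleCloseds X :=
  ⟨closure {x}, isIrreducible_singleton.closure, isClosed_closure⟩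

/-- The length of the longest chain of generizations (seen in irreducible closed sets). -/
noncomputable def rk (x : X) : ℕ := (Order.coheight (cl x)).toNat

lemma coheight_le {d : ℕ} (hd : topologicalKrullDim X ≤ d) (x : X) :
    Order.coheight (cl x) ≤ (d : ℕ∞) :=
  WithBot.coe_le_coe.1 ((Order.coheight_le_krullDim _).trans hd)

lemma rk_le {d : ℕ} (hd : topologicalKrullDim X ≤ d) (x : X) : rk x ≤ d := by
  simpa [rk] using ENat.toNat_le_toNat (coheight_le hd x) (ENat.natCast_ne_top d)

lemma rk_lt [T0Space X] {d : ℕ} (hd : topologicalKrullDim X ≤ d) {z x : X} (h : z ⤳ x)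
    (hne : z ≠ x) : rk z < rk x := by
  have hlt : cl x < cl z := by
    have hle : closure ({x} : Set X) ⊆ closure {z} :=
      closure_minimal (Set.singleton_subset_iff.2 (specializes_iff_mem_closure.1 h)) isClosed_closure
    refine lt_of_le_of_ne hle fun e => hne (h.antisymm ?_).eq
    rw [specializes_iff_mem_closure]
    exact (congrArg (fun T : IrreducibleCloseds X => (T : Set X)) e).symm.subset (subset_closure rfl)
  have hfin : ∀ y : X, Order.coheight (cl y) ≠ ⊤ := fun y h0 =>
    (ENat.natCast_ne_top d) (top_le_iff.1 (h0 ▸ coheight_le hd y))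
  have h1 := Order.coheight_strictAnti hlt (lt_top_iff_ne_top.2 (hfin z))
  obtain ⟨a, ha⟩ := ENat.ne_top_iff_exists.1 (hfin z)
  obtain ⟨b, hb⟩ := ENat.ne_top_iff_exists.1 (hfin x)
  simp only [rk]
  rw [← ha, ← hb] at h1 ⊢
  simpa using h1

/-- Stalks vanish at points of rank `r` with `r + m ≤ d`. -/
def Vanishes (d m : ℕ) (F : CohTop.Ab X) : Prop :=
  ∀ x : X, rk x + m ≤ d → Subsingleton (CohTop.stalk F x : Type u)

variable [SpectralSpace X]

open ConsGerm in
/-- The vanishing and the surjectivity in the top degree. -/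
theorem main {d : ℕ} (hd : topologicalKrullDim X ≤ d) (m : ℕ) : ∀ F : CohTop.Ab X, Vanishes d m F →
    (∀ U : Opens X, IsCompact (U : Set X) → ∀ n, m ≤ n → Subsingleton (Ext.{u} (Zs.obj U) F n)) ∧
    (∀ m', m = m' + 1 → ∀ (U V : Opens X), IsCompact (U : Set X) → IsCompact (V : Set X) →
      ∀ h : V ≤ U, Function.Surjective (rs F m' h)) := by
  induction m with
  | zero =>
    intro F hF
    refine ⟨fun U _ n _ => ?_, fun m' h => absurd h (by omega)⟩
    have h0 : IsZero F := by
      rw [IsZero.iff_id_eq_zero]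
      ext W s
      refine TopCat.Presheaf.section_ext (C := AddCommGrpCat.{u}) (X := X) F W.unop _ _ fun z hz => ?_
      exact @Subsingleton.elim _ (hF z (by simpa using rk_le hd z)) _ _
    refine subsingleton_of_forall_eq 0 fun ξ => ?_
    have h1 := ξ.comp_mk₀_id
    rw [h0.eq_of_src (𝟙 F) 0] at h1
    simpa using h1.symm
  | succ m ih =>
    intro F hF
    let S : ShortComplex (CohTop.Ab X) :=
      ShortComplex.mk (germs F) (cokernel.π (germs F)) (cokernel.condition _)
    have hS : S.ShortExact :=
      { exact := ShortComplex.exact_cokernel _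
        mono_f := inferInstanceAs (Mono (germs F))
        epi_g := inferInstanceAs (Epi (cokernel.π (germs F))) }
    have hQ : Vanishes d m S.X₃ := by
      intro x hx
      refine ⟨fun a b => ?_⟩
      suffices key : ∀ c : (CohTop.stalk S.X₃ x : Type u), c = 0 from (key a).trans (key b).symm
      intro c
      haveI : Epi S.g := hS.epi_g
      obtain ⟨W, hxW, q, rfl⟩ := TopCat.Presheaf.exists_germ_eq S.X₃.obj c
      obtain ⟨W', hW', i, hxW', hi⟩ := exists_local_lift hS q hxW
      obtain ⟨e, he⟩ := stalk_surjective F x (fun z hz hne => hF z (by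
        have := rk_lt hd hz hne; omega)) (TopCat.Presheaf.germ (sheaf F).obj W' x hxW' i)
      rw [← TopCat.Presheaf.germ_res_apply S.X₃.obj (homOfLE hW') x hxW' q, ← hi]
      refine (TopCat.Presheaf.stalkFunctor_map_germ_apply W' x hxW' S.g.hom i).symm.trans ?_
      refine (congrArg _ he).symm.trans ?_
      rw [← ConcreteCategory.comp_apply, ← Functor.map_comp]
      have h0 : (germs F).hom ≫ S.g.hom = 0 := congrArg (fun t => t.hom) S.zero
      refine (congrArg (fun t => (TopCat.Presheaf.stalkFunctor AddCommGrpCat.{u} x).map t e) h0).trans ?_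
      rw [Functor.map_zero]
      rfl
    obtain ⟨ih₁, ih₂⟩ := ih _ hQ
    have hJ : ∀ U : Opens X, IsCompact (U : Set X) → ∀ n, Subsingleton (Ext.{u} (Zs.obj U) S.X₂ (n + 1)) :=
      fun U hU n => Acyclic.ext_subsingleton hU n _ (ConsGerm.qcFlasque F)
    refine ⟨fun U hU n hn => ?_, fun m' hm' U V hU hV h => ?_⟩
    · obtain ⟨k, rfl⟩ : ∃ k, n = k + 1 := ⟨n - 1, by omega⟩
      refine subsingleton_of_forall_eq 0 fun ξ => ?_
      obtain ⟨y, rfl⟩ := Ext.covariant_sequence_exact₁ _ hS ξ ((hJ U hU k).elim _ _) rfl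
      rw [(ih₁ U hU k (by omega)).elim y 0, Ext.zero_comp]
    · obtain rfl : m = m' := by omega
      cases m with
      | zero =>
        intro η
        obtain ⟨g, rfl⟩ := (Ext.mk₀_bijective (Zs.obj V) F).2 η
        obtain ⟨t, ht⟩ := ConsGerm.qcFlasque F U V hU hV h (homEquiv V _ (g ≫ germs F))
        have hQ0 : (homEquiv U S.X₂).symm t ≫ S.g = 0 := (Ext.mk₀_bijective (Zs.obj U) S.X₃).1
          ((ih₁ U hU 0 le_rfl).elim _ _)
        haveI := hS.mono_f
        refine ⟨Ext.mk₀ (hS.exact.lift _ hQ0), ?_⟩
        rw [rs_mk₀]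
        congr 1
        rw [← cancel_mono S.f, Category.assoc, ShortComplex.Exact.lift_f]
        apply (homEquiv V S.X₂).injective
        rw [homEquiv_res, Equiv.apply_symm_apply]
        exact ht
      | succ k =>
        intro η
        obtain ⟨q, hq⟩ := Ext.covariant_sequence_exact₁ _ hS η ((hJ V hV k).elim _ _) rfl
        obtain ⟨q', rfl⟩ := ih₂ k rfl U V hU hV h q
        exact ⟨q'.comp hS.extClass rfl, (rs_comp k rfl h q' hS.extClass).trans hq⟩

end Groth.Agent.Lib.SpecCoh.Vanishing
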